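import Groth.Agent.DimInequality.Local
import Groth.Agent.QFlat.Supp

/-!
# Fibre dimensions of the support of a flat coherent module
-/

set_option autoImplicit false
set_option linter.style.haveILetI false

universe u

open TensorProduct AlgebraicGeometry CategoryTheory

namespace Groth.Agent.TrdegFlatMod

/-- A criterion for algebraic independence over a field of fractions. -/
theorem algebraicIndependent_of_frac {R K L ι : Type u} [CommRing R] [Field K] [CommRing L] [Algebra K L]
    (ρ : R →+* K) (hfrac : ∀ x : K, ∃ a b : R, ρ b ≠ 0 ∧ x * ρ b = ρ a) (t : ι → L)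
    (hG : ∀ G : MvPolynomial ι R, MvPolynomial.aeval t (MvPolynomial.map ρ G) = 0 → MvPolynomial.map ρ G = 0) :
    AlgebraicIndependent K t := by
  have key : ∀ H : MvPolynomial ι K, ∃ (b : R) (G : MvPolynomial ι R), ρ b ≠ 0 ∧
      MvPolynomial.C (ρ b) * H = MvPolynomial.map ρ G := by
    intro H
    induction H using MvPolynomial.induction_on with
    | C x =>
      obtain ⟨a, b, hb, hab⟩ := hfrac x
      exact ⟨b, MvPolynomial.C a, hb, by rw [MvPolynomial.map_C, ← map_mul, mul_comm, hab]⟩
    | add u v hu hv =>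
      obtain ⟨b, G, hb, hbG⟩ := hu
      obtain ⟨b', G', hb', hbG'⟩ := hv
      refine ⟨b * b', MvPolynomial.C b' * G + MvPolynomial.C b * G', by rw [map_mul]; exact mul_ne_zero hb hb', ?_⟩
      rw [map_add, map_mul, map_mul, map_mul, map_mul, MvPolynomial.map_C, MvPolynomial.map_C, ← hbG, ← hbG']
      ring
    | mul_X u i hu =>
      obtain ⟨b, G, hb, hbG⟩ := hu
      exact ⟨b, G * MvPolynomial.X i, hb, by rw [map_mul, MvPolynomial.map_X, ← hbG]; ring⟩
  refine algebraicIndependent_iff.2 fun H hH => ?_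
  obtain ⟨b, G, hb, hbG⟩ := key H
  have h1 : MvPolynomial.map ρ G = 0 := hG G (by rw [← hbG, map_mul, hH, mul_zero])
  rw [h1] at hbG
  exact (mul_eq_zero.1 hbG).resolve_left fun h => hb (MvPolynomial.C_eq_zero.1 h)

/-- A flat finite module and elements independent in the residue field give a prime in the support over
a minimal prime of the base where the elements stay independent. -/
theorem exists_prime_indep {R B L : Type u} [CommRing R] [CommRing B] [IsLocalRing R] [IsLocalRing B]
    [Algebra R B] [IsLocalHom (algebraMap R B)] [AddCommGroup L] [Module B L] [Module R L] [IsScalarTower R B L]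
    [Module.Finite B L] [Nontrivial L] [Module.Flat R L] {ι : Type u} (t : ι → B)
    (h : AlgebraicIndependent (IsLocalRing.ResidueField R) (IsLocalRing.residue B ∘ t))
    (P₀ : Ideal R) (hP₀ : P₀ ∈ minimalPrimes R) :
    ∃ Q : Ideal B, Q.IsPrime ∧ Module.annihilator B L ≤ Q ∧ Q.comap (algebraMap R B) = P₀ ∧
      ∀ G : MvPolynomial ι R, MvPolynomial.aeval t G ∈ Q → MvPolynomial.map (Ideal.Quotient.mk P₀) G = 0 := by
  classical
  haveI := hP₀.1.1
  let k := IsLocalRing.ResidueField R
  let κ := IsLocalRing.ResidueField B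
  haveI : Nontrivial (κ ⊗[B] L) := not_subsingleton_iff_nontrivial.1 fun hs =>
    not_subsingleton L (IsLocalRing.subsingleton_tensorProduct.1 hs)
  obtain ⟨w, hw⟩ := exists_ne (0 : κ ⊗[B] L)
  obtain ⟨m, rfl⟩ := TensorProduct.mk_surjective B L κ IsLocalRing.residue_surjective w
  let bas := Module.Free.chooseBasis κ (κ ⊗[B] L)
  obtain ⟨i, hi⟩ : ∃ i, bas.repr ((TensorProduct.mk B κ L 1) m) i ≠ 0 := by
    by_contra hc
    push Not at hc
    exact hw (bas.repr.map_eq_zero_iff.1 (Finsupp.ext hc))
  let c := bas.repr ((TensorProduct.mk B κ L 1) m) i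
  let Λ : L →ₗ[B] κ := ((c⁻¹ • bas.coord i).restrictScalars B).comp (TensorProduct.mk B κ L 1)
  have hΛ : Λ m = 1 := by
    show c⁻¹ * bas.repr ((TensorProduct.mk B κ L 1) m) i = 1
    exact inv_mul_cancel₀ hi
  let Φ : k ⊗[R] L →ₗ[k] κ := LinearMap.liftBaseChange k (Λ.restrictScalars R)
  let v : (ι →₀ ℕ) → L := fun d => MvPolynomial.aeval t (MvPolynomial.monomial d (1 : R)) • m
  have hv : LinearIndependent R v := by
    refine Module.IsLocalRing.linearIndependent_of_flat v ?_
    refine LinearIndependent.of_comp Φ ?_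
    have h1 := (MvPolynomial.basisMonomials ι k).linearIndependent.map'
      (MvPolynomial.aeval (IsLocalRing.residue B ∘ t)).toLinearMap (LinearMap.ker_eq_bot.2 h)
    have heq : (Φ ∘ TensorProduct.mk R k L 1 ∘ v) =
        (MvPolynomial.aeval (IsLocalRing.residue B ∘ t)).toLinearMap ∘ (MvPolynomial.basisMonomials ι k) := by
      funext d
      show Φ (1 ⊗ₜ[R] v d) = MvPolynomial.aeval _ ((MvPolynomial.basisMonomials ι k) d)
      simp only [Φ, LinearMap.liftBaseChange_tmul, one_smul, LinearMap.restrictScalars_apply, v, map_smul, hΛ,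
        Algebra.smul_def, mul_one, MvPolynomial.coe_basisMonomials, MvPolynomial.aeval_monomial, map_one, one_mul]
      simp [Finsupp.prod]
      rfl
    rw [heq]
    exact h1
  have hinj : ∀ G : MvPolynomial ι R, MvPolynomial.aeval t G • m = 0 → G = 0 := by
    intro G hG
    ext d
    rw [MvPolynomial.coeff_zero]
    by_cases hd : d ∈ G.support
    · refine linearIndependent_iff'.1 hv G.support (fun d => MvPolynomial.coeff d G) ?_ d hd
      conv_rhs => rw [← hG]
      conv_rhs => rw [MvPolynomial.as_sum G, map_sum, Finset.sum_smul]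
      refine Finset.sum_congr rfl fun j _ => ?_
      show MvPolynomial.coeff j G • (MvPolynomial.aeval t (MvPolynomial.monomial j (1 : R)) • m) = _
      rw [← smul_assoc, ← map_smul, MvPolynomial.smul_monomial, smul_eq_mul, mul_one]
    · exact MvPolynomial.notMem_support_iff.1 hd
  let σ : Submonoid B := ((nonZeroDivisors (MvPolynomial ι (R ⧸ P₀))).comap
    (MvPolynomial.map (σ := ι) (Ideal.Quotient.mk P₀))).map (MvPolynomial.aeval (R := R) t)
  have hdisj : Disjoint (Module.annihilator B L : Set B) (σ : Set B) := by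
    refine Set.disjoint_left.2 fun b hb hbσ => ?_
    obtain ⟨G, hG, rfl⟩ := hbσ
    have h0 := hinj G (Module.mem_annihilator.1 hb m)
    exact nonZeroDivisors.ne_zero (M₀ := MvPolynomial ι (R ⧸ P₀)) hG (by rw [h0, map_zero])
  obtain ⟨Q, hQ, hAQ, hQσ⟩ := Ideal.exists_le_prime_disjoint _ σ hdisj
  have hG : ∀ G : MvPolynomial ι R, MvPolynomial.aeval t G ∈ Q → MvPolynomial.map (Ideal.Quotient.mk P₀) G = 0 := by
    intro G hGQ
    by_contra hne
    exact Set.disjoint_left.1 hQσ hGQ ⟨G, mem_nonZeroDivisors_of_ne_zero hne, rfl⟩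
  have hle : Q.comap (algebraMap R B) ≤ P₀ := by
    intro a ha
    have := hG (MvPolynomial.C a) (by rw [MvPolynomial.aeval_C]; exact ha)
    rw [MvPolynomial.map_C, MvPolynomial.C_eq_zero, Ideal.Quotient.eq_zero_iff_mem] at this
    exact this
  exact ⟨Q, hQ, hAQ, le_antisymm hle (hP₀.2 ⟨Ideal.IsPrime.comap _, bot_le⟩ hle), hG⟩

variable {X Y : Scheme.{u}}

/-- The residue field at a generalization as fractions of the local ring. -/
theorem exists_frac_residue {y y' : Y} (h : y' ⤳ y) (x : Y.residueField y') :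
    ∃ a b : Y.presheaf.stalk y, Y.residue y' (Y.presheaf.stalkSpecializes h b) ≠ 0 ∧
      x * Y.residue y' (Y.presheaf.stalkSpecializes h b) = Y.residue y' (Y.presheaf.stalkSpecializes h a) := by
  obtain ⟨z, rfl⟩ := Y.residue_surjective y' x
  obtain ⟨U, hU, hyU, -⟩ := exists_isAffineOpen_mem_and_subset (X := Y) (x := y) (U := ⊤) (Set.mem_univ _)
  have hy'U : y' ∈ U := h.mem_open U.2 hyU
  letI := TopCat.Presheaf.algebra_section_stalk Y.presheaf (U := U) ⟨y', hy'U⟩
  haveI := hU.isLocalization_stalk ⟨y', hy'U⟩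
  obtain ⟨⟨a, s⟩, hs⟩ := IsLocalization.surj (hU.primeIdealOf ⟨y', hy'U⟩).asIdeal.primeCompl z
  have hg : ∀ c, Y.presheaf.stalkSpecializes h (Y.presheaf.germ U y hyU c) = Y.presheaf.germ U y' hy'U c :=
    fun c => TopCat.Presheaf.germ_stalkSpecializes_apply _ hyU h c
  have hu : IsUnit (Y.presheaf.germ U y' hy'U (s : Γ(Y, U))) :=
    IsLocalization.map_units (Y.presheaf.stalk y') s
  refine ⟨Y.presheaf.germ U y hyU a, Y.presheaf.germ U y hyU (s : Γ(Y, U)), ?_, ?_⟩
  · rw [hg]
    exact (hu.map (Y.residue y').hom).ne_zero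
  · rw [hg, hg, ← map_mul]
    exact congrArg (Y.residue y') hs

/-- A point in the support of a flat coherent module is matched over every maximal generalization of
its image by a point of the support with at least the same fibre dimension. -/
theorem exists_support_fdim_le (f : X ⟶ Y) [LocallyOfFiniteType f] {M : X.Modules} (hM : Coh.IsCoh M)
    (hfl : FlatMod.IsFlatOver f M) {z : X} (hz : z ∈ CohB1.support M) {η : Y} (hη : η ⤳ f z)
    (hmax : ∀ η' : Y, η' ⤳ η → η' = η) :
    ∃ z' ∈ CohB1.support M, f z' = η ∧ FibreDim.fdim f z ≤ FibreDim.fdim f z' := by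
  classical
  obtain ⟨p, hp⟩ : η ∈ Set.range (Y.fromSpecStalk (f z)) := by rw [Scheme.range_fromSpecStalk]; exact hη
  have hpmin : p.asIdeal ∈ minimalPrimes (Y.presheaf.stalk (f z)) := by
    refine ⟨⟨p.2, bot_le⟩, fun J hJ hJp => ?_⟩
    let j : Spec (Y.presheaf.stalk (f z)) := ⟨J, hJ.1⟩
    have h1 : j ⤳ p := (PrimeSpectrum.le_iff_specializes j p).1 hJp
    have h2 : j = p := (Y.fromSpecStalk (f z)).isEmbedding.injective
      ((hmax _ ((h1.map (Y.fromSpecStalk (f z)).continuous).trans (specializes_of_eq hp))).trans hp.symm)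
    exact (congrArg PrimeSpectrum.asIdeal h2).ge
  obtain ⟨n, hn, hdim⟩ := DimInequality.exists_fdim_trdeg f z
  haveI := NegVanish.finite_stalk hM z
  haveI : Nontrivial (M.presheaf.stalk z) := not_subsingleton_iff_nontrivial.1 hz
  algebraize [(f.stalkMap z).hom]
  letI := FlatMod.moduleStalkOver f M z
  haveI : IsScalarTower (Y.presheaf.stalk (f z)) (X.presheaf.stalk z) (M.presheaf.stalk z) :=
    .of_algebraMap_smul fun _ _ => rfl
  haveI : Module.Flat (Y.presheaf.stalk (f z)) (M.presheaf.stalk z) := hfl z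
  haveI : IsLocalHom (algebraMap (Y.presheaf.stalk (f z)) (X.presheaf.stalk z)) := f.toLRSHom.prop z
  let κY := IsLocalRing.ResidueField (Y.presheaf.stalk (f z))
  let κX := IsLocalRing.ResidueField (X.presheaf.stalk z)
  have hn2 : Algebra.trdeg κY κX = n := by
    rw [← hn]
    letI := (f.residueFieldMap z).hom.toAlgebra
    refine FibreDim.trdeg_eq_of_ringEquiv (R := κY) (S := Y.residueField (f z)) (RingEquiv.refl _) (RingEquiv.refl _)
      fun c => ?_
    obtain ⟨c, rfl⟩ := IsLocalRing.residue_surjective c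
    exact ConcreteCategory.congr_hom (Scheme.residue_residueFieldMap f z) c
  obtain ⟨s, hs⟩ := exists_isTranscendenceBasis κY κX
  have hcard : Cardinal.mk s = n := hs.cardinalMk_eq_trdeg.trans hn2
  choose t ht using fun i : s => IsLocalRing.residue_surjective (i : κX)
  have hind : AlgebraicIndependent κY (IsLocalRing.residue (X.presheaf.stalk z) ∘ t) := by
    rw [show IsLocalRing.residue (X.presheaf.stalk z) ∘ t = ((↑) : s → κX) from funext ht]
    exact hs.1
  obtain ⟨Q, hQ, hAQ, hQp, hQG⟩ := exists_prime_indep (L := M.presheaf.stalk z) t hind p.asIdeal hpmin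
  let q : Spec (X.presheaf.stalk z) := ⟨Q, hQ⟩
  refine ⟨X.fromSpecStalk z q, QFlat.fromSpecStalk_mem_support hM z q hAQ, ?_, ?_⟩
  · rw [← hp]
    refine (congrArg (fun g : Spec (X.presheaf.stalk z) ⟶ Y => g q)
      (Scheme.SpecMap_stalkMap_fromSpecStalk f (x := z))).symm.trans ?_
    exact congrArg (Y.fromSpecStalk (f z)) (PrimeSpectrum.ext hQp)
  set z' := X.fromSpecStalk z q with hz'
  have hsp : z' ⤳ z := by
    have : z' ∈ Set.range (X.fromSpecStalk z) := ⟨q, rfl⟩
    rwa [Scheme.range_fromSpecStalk] at this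
  let σX : X.presheaf.stalk z →+* X.residueField z' :=
    (X.residue z').hom.comp (X.presheaf.stalkSpecializes hsp).hom
  have hker : RingHom.ker σX = Q := by
    let c : Spec (X.presheaf.stalk z') := IsLocalRing.closedPoint (X.presheaf.stalk z')
    let q'' : Spec (X.presheaf.stalk z) := Spec.map (X.presheaf.stalkSpecializes hsp) c
    have hq : q'' = q := (X.fromSpecStalk z).isEmbedding.injective (by
      rw [← Scheme.Hom.comp_apply, Scheme.SpecMap_stalkSpecializes_fromSpecStalk, Scheme.fromSpecStalk_closedPoint])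
    refine Eq.trans ?_ (congrArg PrimeSpectrum.asIdeal hq)
    show RingHom.ker σX = Ideal.comap (X.presheaf.stalkSpecializes hsp).hom (IsLocalRing.maximalIdeal _)
    rw [← IsLocalRing.ker_residue, RingHom.comap_ker]
    rfl
  obtain ⟨n', hn', hdim'⟩ := DimInequality.exists_fdim_trdeg f z'
  rw [hdim, hdim']
  letI := (f.residueFieldMap z').hom.toAlgebra
  let σY : Y.presheaf.stalk (f z) →+* Y.residueField (f z') :=
    (Y.residue (f z')).hom.comp (Y.presheaf.stalkSpecializes (f.base.hom.map_specializes hsp)).hom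
  have hsq : ∀ r, algebraMap (Y.residueField (f z')) (X.residueField z') (σY r) = σX ((f.stalkMap z).hom r) := by
    intro r
    show (f.residueFieldMap z').hom ((Y.residue (f z')).hom _) = (X.residue z').hom _
    refine (ConcreteCategory.congr_hom (Scheme.residue_residueFieldMap f z') _).trans ?_
    exact congrArg (X.residue z').hom (Scheme.Hom.stalkSpecializes_stalkMap_apply f z' z hsp r)
  have hσY : RingHom.ker σY = p.asIdeal := by
    rw [← hQp, ← hker, RingHom.comap_ker]
    ext r
    rw [RingHom.mem_ker, RingHom.mem_ker]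
    show σY r = 0 ↔ σX ((f.stalkMap z).hom r) = 0
    rw [← hsq r, map_eq_zero_iff _ (RingHom.injective (algebraMap (Y.residueField (f z')) (X.residueField z')))]
  have hind' : AlgebraicIndependent (Y.residueField (f z')) (σX ∘ t) := by
    refine algebraicIndependent_of_frac σY (fun x => exists_frac_residue _ x) _ fun G hG => ?_
    have hev : MvPolynomial.aeval (σX ∘ t) (MvPolynomial.map σY G) = σX (MvPolynomial.aeval t G) := by
      rw [MvPolynomial.aeval_def, MvPolynomial.eval₂_map, MvPolynomial.aeval_def, MvPolynomial.eval₂_comp_left σX]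
      congr 1
      exact RingHom.ext hsq
    rw [hev] at hG
    have h0 := hQG G (by rw [← hker]; exact RingHom.mem_ker.2 hG)
    ext d
    have h1 := congrArg (MvPolynomial.coeff d) h0
    rw [MvPolynomial.coeff_map, MvPolynomial.coeff_zero, Ideal.Quotient.eq_zero_iff_mem, ← hσY, RingHom.mem_ker] at h1
    rw [MvPolynomial.coeff_map, h1, MvPolynomial.coeff_zero]
  have h2 := hind'.cardinalMk_le_trdeg
  rw [hcard, hn'] at h2
  exact_mod_cast h2

end Groth.Agent.TrdegFlatMod
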